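import Cfsg.Prelude.Def_CaseTheorems
import Cfsg.Prelude.Def_Transfer
import Cfsg.Agent.Lib.Transfer.Basic
import Cfsg.Agent.Lib.LocalEven.SylowAux

/-!
Odd cores of subgroups, in the ambient language, for the analysis of a strongly closed elementary
abelian 2-subgroup.
-/

set_option autoImplicit false
set_option linter.style.haveILetI false
set_option linter.unusedSectionVars false

namespace Cfsg.Agent.ClosedAbelian

open Subgroup

variable {G : Type*} [Group G]

/-- The odd core of a subgroup, inside the ambient group. -/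
def core (X : Subgroup G) : Subgroup G := (Cfsg.oddCore ↥X).map X.subtype

/-- A 2-element. -/
def TwoEl (x : G) : Prop := ∃ k : ℕ, x ^ 2 ^ k = 1

theorem TwoEl.of_group {P : Subgroup G} (hP : IsPGroup 2 ↥P) {x : G} (h : x ∈ P) : TwoEl x := by
  obtain ⟨k, hk⟩ := hP ⟨x, h⟩
  exact ⟨k, congrArg Subtype.val hk⟩

theorem TwoEl.conj {x : G} (h : TwoEl x) (g : G) : TwoEl (g * x * g⁻¹) := by
  obtain ⟨k, hk⟩ := h
  exact ⟨k, by rw [conj_pow, hk, mul_one, mul_inv_cancel]⟩

theorem TwoEl.isPGroup {x : G} (h : TwoEl x) : IsPGroup 2 ↥(zpowers x) := by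
  rintro ⟨y, hy⟩
  obtain ⟨k, hk⟩ := h
  obtain ⟨i, rfl⟩ := mem_zpowers_iff.1 hy
  exact ⟨k, Subtype.ext (show (x ^ i) ^ (2 ^ k) = 1 by
    rw [← zpow_natCast, ← zpow_mul, mul_comm, zpow_mul, zpow_natCast, hk, one_zpow])⟩

theorem TwoEl.eq_one_of_odd {x : G} (h : TwoEl x) (ho : Odd (orderOf x)) : x = 1 := by
  obtain ⟨k, hk⟩ := h
  exact orderOf_eq_one_iff.1 (Nat.eq_one_of_dvd_coprimes
    (Nat.Coprime.pow_right k (Nat.coprime_two_right.2 ho)) dvd_rfl (orderOf_dvd_of_pow_eq_one hk))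

theorem twoEl_of_sq {x : G} (h : x * x = 1) : TwoEl x := ⟨1, by rw [pow_one, pow_two, h]⟩

/-- An element of odd order lies in a subgroup containing its square. -/
theorem mem_of_sq_mem {H : Subgroup G} {d : G} (h : d * d ∈ H) (ho : Odd (orderOf d)) : d ∈ H := by
  obtain ⟨m, hm⟩ := ho
  have h1 : (d * d) ^ (m + 1) = d := by
    rw [← pow_two, ← pow_mul, show 2 * (m + 1) = (2 * m + 1) + 1 by ring, pow_succ, ← hm,
      pow_orderOf_eq_one, one_mul]
  exact h1 ▸ pow_mem h _

variable [Finite G]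

/-- The decomposition into a 2-element and an element of odd order. -/
theorem exists_parts (g : G) :
    ∃ u v : G, u * v = g ∧ u ∈ zpowers g ∧ v ∈ zpowers g ∧ TwoEl u ∧ Odd (orderOf v) := by
  obtain ⟨u, v, h1, h2, h3, ⟨k, hk⟩, h5⟩ := PBasic.exists_pPart_mul (p := 2) g
  exact ⟨u, v, h1, h2, h3, ⟨k, by rw [← hk, pow_orderOf_eq_one]⟩, Nat.coprime_two_right.1 h5⟩

theorem odd_orderOf_of_mem {H : Subgroup G} (hH : ¬ 2 ∣ Nat.card H) {x : G} (hx : x ∈ H) :
    Odd (orderOf x) := by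
  rw [← Nat.not_even_iff_odd, even_iff_two_dvd]
  exact fun h => hH (h.trans (H.orderOf_dvd_natCard hx))

/-! ### The odd core -/

theorem core_le (X : Subgroup G) : core X ≤ X := map_subtype_le _

theorem core_odd (X : Subgroup G) : ¬ 2 ∣ Nat.card (core X) := by
  rw [core, card_subtype]
  exact fun h => Nat.prime_two.coprime_iff_not_dvd.1
    (PBasic.pPrimeCore_coprime 2 ↥X).symm h

theorem core_normalized (X : Subgroup G) : X ≤ normalizer (core X : Set G) := by
  have h := le_normalizer_map (H := Cfsg.oddCore ↥X) X.subtype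
  rw [normalizer_eq_top, ← MonoidHom.range_eq_map, range_subtype] at h
  exact h

theorem conj_mem_core {X : Subgroup G} {x o : G} (hx : x ∈ X) (ho : o ∈ core X) :
    x * o * x⁻¹ ∈ core X :=
  (mem_normalizer_iff.1 (core_normalized X hx) o).1 ho

theorem le_core {X N : Subgroup G} (hN : N ≤ X) (hn : X ≤ normalizer (N : Set G))
    (ho : ¬ 2 ∣ Nat.card N) : N ≤ core X := by
  haveI : (N.subgroupOf X).Normal := normal_subgroupOf_of_le_normalizer hn
  have h : N.subgroupOf X ≤ Cfsg.oddCore ↥X := PBasic.le_pPrimeCore inferInstance (by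
    rw [Nat.card_congr (subgroupOfEquivOfLe hN).toEquiv, Nat.coprime_comm,
      Nat.prime_two.coprime_iff_not_dvd]
    exact ho)
  intro x hx
  exact ⟨⟨x, hN hx⟩, h (mem_subgroupOf.2 hx), rfl⟩

theorem mem_core_of_mem {X N : Subgroup G} (hN : N ≤ X) (hn : X ≤ normalizer (N : Set G))
    (ho : ¬ 2 ∣ Nat.card N) {x : G} (hx : x ∈ N) : x ∈ core X := le_core hN hn ho hx

/-- Conjugation carries cores to cores. -/
theorem conj_core_le (X : Subgroup G) (g : G) :
    (core X).map (MulAut.conj g).toMonoidHom ≤ core (X.map (MulAut.conj g).toMonoidHom) := by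
  refine le_core (map_mono (core_le X)) ?_ ?_
  · exact (map_mono (core_normalized X)).trans (le_normalizer_map _)
  · rw [LEBasic.card_map_conj]
    exact core_odd X

theorem normalizer_le_normalizer_core (X : Subgroup G) :
    normalizer (X : Set G) ≤ normalizer (core X : Set G) := fun g hg => by
  rw [← LEBasic.map_conj_eq_iff_mem_normalizer]
  refine eq_of_le_of_card_ge ?_ (LEBasic.card_map_conj _ g).ge
  have h := conj_core_le X g
  rwa [LEBasic.map_conj_eq_iff_mem_normalizer.2 hg] at h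

/-- An odd subgroup normalised modulo the odd core. -/
theorem sup_core_odd {X M : Subgroup G} (hM : M ≤ X) (ho : ¬ 2 ∣ Nat.card M) :
    ¬ 2 ∣ Nat.card ↥(M ⊔ core X) := by
  have h := PBasic.coprime_card_sup_of_normal (p := 2) (M.subgroupOf X) (Cfsg.oddCore ↥X)
    (by rw [Nat.card_congr (subgroupOfEquivOfLe hM).toEquiv, Nat.coprime_comm,
      Nat.prime_two.coprime_iff_not_dvd]; exact ho)
    (PBasic.pPrimeCore_coprime 2 ↥X)
  rw [← card_subtype X, Subgroup.map_sup, map_subgroupOf_eq_of_le hM] at h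
  exact Nat.prime_two.coprime_iff_not_dvd.1 h.symm

/-! ### Sylow subgroups of subgroups -/

/-- Any 2-subgroup of `X` is conjugate in `X` into a 2-subgroup of `X` containing a given one. -/
theorem exists_conj_over {X A P : Subgroup G} (hA : IsPGroup 2 ↥A) (hAX : A ≤ X) (hP : IsPGroup 2 ↥P)
    (hPX : P ≤ X) :
    ∃ c ∈ X, ∃ T : Subgroup G, IsPGroup 2 ↥T ∧ A ≤ T ∧ T ≤ X ∧ ∀ x ∈ P, c * x * c⁻¹ ∈ T := by
  obtain ⟨S, hS⟩ := (hA.comap_subtype (K := X)).exists_le_sylow
  obtain ⟨c, hc, hcle⟩ := LESylow.exists_conj_le_of_le hPX hP S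
  refine ⟨c, hc, (S : Subgroup ↥X).map X.subtype, S.2.map _, ?_, map_subtype_le _,
    fun x hx => hcle ⟨x, hx, rfl⟩⟩
  intro a ha
  exact ⟨⟨a, hAX ha⟩, hS (mem_subgroupOf.2 ha), rfl⟩

end Cfsg.Agent.ClosedAbelian
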