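import Cfsg.Agent.Lib.ClosedAbelian.Functor

/-!
The subgroup `H = W N_X(A)` and the centralizers of its 2-elements.
-/

set_option autoImplicit false
set_option linter.style.haveILetI false
set_option linter.unusedSectionVars false

namespace Cfsg.Agent.ClosedAbelian

open Subgroup

universe u

variable {G : Type u} [Group G] [Finite G] {A F H : Subgroup G}

theorem zpowers_cases {v x : G} (hv : v * v = 1) (hx : x ∈ zpowers v) : x = 1 ∨ x = v := by
  obtain ⟨i, rfl⟩ := mem_zpowers_iff.1 hx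
  have h2 : ∀ j : ℤ, v ^ (2 * j) = 1 := fun j => by
    rw [zpow_mul, zpow_two, hv, one_zpow]
  rcases Int.even_or_odd i with ⟨j, rfl⟩ | ⟨j, rfl⟩
  · left; rw [← two_mul, h2]
  · right; rw [zpow_add, h2, one_mul, zpow_one]

/-- The inductive step with a subgroup containing the relevant normalizer and centralizers. -/
structure Sit (A F H : Subgroup G) : Prop where
  step : Step A F
  mover : ∃ r ∈ NX A F, Odd (orderOf r) ∧ r ∉ centralizer (A : Set G)
  le : H ≤ centralizer (F : Set G)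
  normalizer_le : NX A F ≤ H
  cent_le : ∀ b ∈ A, b ∉ F → CX F b ≤ H

variable (K : Sit A F H)
include K

theorem Sit.A_le : A ≤ H := (K.step.data.le_NX K.step.le).trans K.normalizer_le

theorem Sit.F_le : F ≤ H := K.step.le.trans K.A_le

theorem Sit.mem_N_of_mem {T : Subgroup G} (hT : IsPGroup 2 ↥T) (hA : A ≤ T) {x : G} (hx : x ∈ T) :
    x ∈ normalizer (A : Set G) :=
  K.step.data.le_normalizer_of_two hT hA hx

/-- An element of `X` conjugating some `b ∈ A ∖ F` into `H` lies in `H`. -/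
theorem Sit.mem_of_conj_mem {b g : G} (hb : b ∈ A) (hbF : b ∉ F)
    (hg : g ∈ centralizer (F : Set G)) (h : g * b * g⁻¹ ∈ H) : g ∈ H := by
  have hD := K.step.data
  obtain ⟨c, hc, T, hT, hAT, hTH, hcT⟩ := exists_conj_over hD.isPGroup K.A_le
    ((TwoEl.of_group hD.isPGroup hb).conj g).isPGroup (zpowers_le.2 h)
  have h1 : c * g * b * (c * g)⁻¹ ∈ T := by
    have := hcT _ (mem_zpowers (g * b * g⁻¹))
    simpa [mul_assoc] using this
  obtain ⟨n, hn, hn'⟩ := hD.control K.step.le hT hAT (mul_mem (K.le hc) hg) {b}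
    (fun x hx => by rw [Set.mem_singleton_iff.1 hx]; exact hAT hb)
    (fun x hx => by rw [Set.mem_singleton_iff.1 hx]; exact h1)
  have h2 : n⁻¹ * (c * g) ∈ CX F b := by
    refine mem_CX.2 ⟨mul_mem (inv_mem (mem_inf.1 hn).2) (mul_mem (K.le hc) hg), ?_⟩
    calc n⁻¹ * (c * g) * b = n⁻¹ * (c * g * b * (c * g)⁻¹) * (c * g) := by group
      _ = n⁻¹ * (n * b * n⁻¹) * (c * g) := by rw [hn' b rfl]
      _ = _ := by group
  have h3 := mul_mem (inv_mem hc) (mul_mem (K.normalizer_le hn) (K.cent_le b hb hbF h2))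
  simpa [mul_assoc] using h3

/-- The centralizer in `X` of a 2-element of `H` inverting or moving `A`. -/
theorem Sit.cent_mover_le {y : G} (hy : y ∈ H) (hyN : y ∈ normalizer (A : Set G))
    (hy2 : TwoEl y) (hyC : y ∉ centralizer (A : Set G)) (hyy : y * y ∈ centralizer (A : Set G)) :
    centralizer (F : Set G) ⊓ centralizer ({y} : Set G) ≤ H := by
  have hD := K.step.data
  set X := centralizer (F : Set G) with hX
  set Y := X ⊓ centralizer ({y} : Set G) with hY
  have hyA : y * y ∈ A := hD.centre _ hyy (by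
    obtain ⟨k, hk⟩ := hy2
    exact ⟨k, by rw [(Commute.refl y).mul_pow, hk, mul_one]⟩)
  have hyY : y ∈ Y := mem_inf.2 ⟨K.le hy, mem_centralizer_singleton_iff.2 rfl⟩
  -- Frobenius in `Y`
  have hF : ∀ P : Subgroup G, IsPGroup 2 ↥P → P ≤ Y → ∀ g ∈ Y, g ∈ normalizer (P : Set G) →
      Odd (orderOf g) → g ∈ centralizer (P : Set G) := by
    intro P hP hPY g hgY hgN ho
    have hPn : P ≤ normalizer ((zpowers y : Subgroup G) : Set G) := (hPY.trans inf_le_right).trans
      (LESylow.centralizer_le_normalizer_zpowers y)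
    set Q := P ⊔ zpowers y with hQ
    have hQp : IsPGroup 2 ↥Q := hP.to_sup_of_normal_right' hy2.isPGroup hPn
    have hQY : Q ≤ Y := sup_le hPY (zpowers_le.2 hyY)
    have hgQ : g ∈ normalizer (Q : Set G) :=
      normalizer_inf_normalizer_le_normalizer_sup _ _ (mem_inf.2 ⟨hgN,
        LESylow.centralizer_le_normalizer_zpowers y (mem_inf.1 hgY).2⟩)
    obtain ⟨c, hc, T, hT, hAT, hTX, hcT⟩ :=
      exists_conj_over hD.isPGroup (hD.le_centralizer K.step.le) hQp (hQY.trans inf_le_left)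
    set Q' := Q.map (MulAut.conj c).toMonoidHom with hQ'
    have hQT : Q' ≤ T := by rintro _ ⟨x, hx, rfl⟩; exact hcT x hx
    have hy' : c * y * c⁻¹ ∈ T := hcT y (mem_sup_right (mem_zpowers y))
    have hy'C : c * y * c⁻¹ ∉ centralizer (A : Set G) := fun h => by
      refine hyC (hD.le_centralizer le_rfl ?_)
      have h1 := hD.closed _ (hD.centre _ h (hy2.conj c)) c⁻¹
      have h2 : c⁻¹ * (c * y * c⁻¹) * c⁻¹⁻¹ = y := by group
      rw [h2] at h1
      exact h1 hyN
    have hy'A : c * y * c⁻¹ * (c * y * c⁻¹) ∈ centralizer (A : Set G) := by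
      refine hD.le_centralizer le_rfl ?_
      have h1 : c * (y * y) * c⁻¹ = c * y * c⁻¹ * (c * y * c⁻¹) := by group
      rw [← h1]
      exact hD.closed _ hyA c (by rw [h1]; exact K.mem_N_of_mem hT hAT (mul_mem hy' hy'))
    have hg' : c * g * c⁻¹ ∈ normalizer (Q' : Set G) :=
      le_normalizer_map (MulAut.conj c).toMonoidHom ⟨g, hgQ, rfl⟩
    obtain ⟨n, hn, hn'⟩ := hD.control K.step.le hT hAT
      (mul_mem (mul_mem hc (mem_inf.1 hgY).1) (inv_mem hc)) (Q' : Set G) (fun x hx => hQT hx)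
      (fun x hx => hQT ((mem_normalizer_iff.1 hg' x).1 hx))
    have hny : Commute n (c * y * c⁻¹) := by
      have h1 := hn' _ ⟨y, mem_sup_right (mem_zpowers y), rfl⟩
      have h2 : c * g * c⁻¹ * (c * y * c⁻¹) * (c * g * c⁻¹)⁻¹ = c * (g * y * g⁻¹) * c⁻¹ := by group
      have h3 : g * y * g⁻¹ = y := by
        rw [mem_centralizer_singleton_iff.1 (mem_inf.1 hgY).2, mul_inv_cancel_right]
      change c * g * c⁻¹ * (c * y * c⁻¹) * (c * g * c⁻¹)⁻¹ = n * (c * y * c⁻¹) * n⁻¹ at h1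
      rw [h2, h3, eq_mul_inv_iff_mul_eq] at h1
      exact h1.symm
    have hcen := hD.centralizes (hT.to_le hQT) (hQT.trans (hD.le_normalizer_of_two hT hAT)) hg'
      ((MulAut.conj c).orderOf_eq g ▸ ho :) hn' (fun v hv hov => by
        obtain ⟨i, rfl⟩ := mem_zpowers_iff.1 hv
        exact hD.two _ (K.mem_N_of_mem hT hAT hy') _ (zpow_mem (mem_inf.1 hn).1 i) hy'C hy'A
          (hny.zpow_left i).eq hov)
    refine mem_centralizer_iff.2 fun x hx => ?_
    have := mem_centralizer_iff.1 hcen (c * x * c⁻¹) ⟨x, mem_sup_left hx, rfl⟩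
    calc x * g = c⁻¹ * ((c * x * c⁻¹) * (c * g * c⁻¹)) * c := by group
      _ = c⁻¹ * ((c * g * c⁻¹) * (c * x * c⁻¹)) * c := by rw [this]
      _ = g * x := by group
  -- a four group in `C_A(y)` meeting `F` trivially
  set V := A ⊓ centralizer ({y} : Set G) with hV
  obtain ⟨r, hr, hro, hrC⟩ := K.mover
  have hFr : F ≤ A ⊓ centralizer ({r} : Set G) := le_inf K.step.le fun f hf =>
    mem_centralizer_singleton_iff.2 (mem_centralizer_iff.1 (mem_inf.1 hr).2 f hf)
  have hbig : Nat.card F * 4 ≤ Nat.card V :=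
    (Nat.mul_le_mul_right 4 (Subgroup.card_le_of_le hFr)).trans
      (hD.wide r (mem_inf.1 hr).1 hro hrC y hyN hyC hyy)
  have hVY : V ≤ Y := inf_le_inf_right _ (hD.le_centralizer K.step.le)
  have hFpos : 0 < Nat.card F := Nat.card_pos
  obtain ⟨v, hv, hvF⟩ : ∃ v ∈ V, v ∉ F := by
    by_contra! h
    have := Subgroup.card_le_of_le h
    omega
  have hv2 : v * v = 1 := hD.sq (mem_inf.1 hv).1
  have hFv : Nat.card ↥(F ⊔ zpowers v) ≤ Nat.card F * 2 := by
    have hn : zpowers v ≤ normalizer (F : Set G) := zpowers_le.2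
      ((centralizer_le_normalizer _) (hD.le_centralizer K.step.le (mem_inf.1 hv).1))
    have hint : F ⊓ zpowers v = ⊥ := by
      rw [eq_bot_iff]
      intro x hx
      rcases zpowers_cases hv2 (mem_inf.1 hx).2 with rfl | rfl
      · exact one_mem _
      · exact absurd (mem_inf.1 hx).1 hvF
    rw [SolvBasic.card_sup_of_inf_eq_bot hn hint, Nat.card_zpowers]
    exact Nat.mul_le_mul_left _ (orderOf_le_of_pow_eq_one two_pos (by rw [pow_two, hv2]))
  obtain ⟨w, hw, hwF⟩ : ∃ w ∈ V, w ∉ F ⊔ zpowers v := by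
    by_contra! h
    have := Subgroup.card_le_of_le h
    omega
  have hw2 : w * w = 1 := hD.sq (mem_inf.1 hw).1
  set B := zpowers v ⊔ zpowers w with hB
  have hBV : B ≤ V := sup_le (zpowers_le.2 hv) (zpowers_le.2 hw)
  have hBF : ∀ x ∈ B, x ≠ 1 → x ∉ F := by
    intro x hx hx1 hxF
    have hn : zpowers w ≤ normalizer ((zpowers v : Subgroup G) : Set G) := zpowers_le.2
      (LESylow.centralizer_le_normalizer_zpowers v (mem_centralizer_singleton_iff.2
        (hD.comm (mem_inf.1 hw).1 (mem_inf.1 hv).1)))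
    rw [hB, ← SetLike.mem_coe, coe_mul_of_right_le_normalizer_left _ _ hn] at hx
    obtain ⟨a, ha, b, hb, rfl⟩ := hx
    beta_reduce at hxF hx1
    rcases zpowers_cases hw2 hb with rfl | rfl
    · rw [mul_one] at hxF hx1
      rcases zpowers_cases hv2 ha with rfl | rfl
      · exact hx1 rfl
      · exact hvF hxF
    · refine hwF ?_
      simpa using mul_mem (mem_sup_right (S := F) (inv_mem ha)) (mem_sup_left (T := zpowers v) hxF)
  have hB4 : 2 ^ 2 ≤ Nat.card B := by
    obtain ⟨k, hk⟩ := (hD.isPGroup.to_le (hBV.trans inf_le_left)).exists_card_eq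
    have hlt : Nat.card ↥(zpowers v) < Nat.card B := by
      refine Nat.lt_of_le_of_ne (Subgroup.card_le_of_le le_sup_left) fun heq => ?_
      have hBv : B = zpowers v := (eq_of_le_of_card_ge le_sup_left heq.ge).symm
      exact hwF (mem_sup_right (show w ∈ zpowers v by rw [← hBv]; exact mem_sup_right (mem_zpowers w)))
    have hv1 : orderOf v = 2 := orderOf_eq_prime (by rw [pow_two, hv2])
      fun h => hvF (h ▸ one_mem _)
    rw [Nat.card_zpowers, hv1, hk] at hlt
    rw [hk]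
    refine Nat.pow_le_pow_right two_pos ?_
    by_contra hlt'
    interval_cases k <;> simp at hlt
  have hBY : B ≤ Y := hBV.trans hVY
  have hO : core Y ≤ H := Signalizer.le_of_centralizer_le (p := 2)
    (Signalizer.ea_mono hD.ea (hBV.trans inf_le_left)) hB4 (hBY.trans (core_normalized Y))
    (core_odd Y) fun b hb hb1 x hx => K.cent_le b (hBV hb).1 (hBF b hb hb1)
      (mem_CX.2 ⟨(mem_inf.1 (core_le Y hx.1)).1, mem_centralizer_singleton_iff.1 hx.2⟩)
  -- a Sylow 2-subgroup inside `H`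
  obtain ⟨R₀, hR₀⟩ := ((hD.isPGroup.to_le (inf_le_left : V ≤ A)).comap_subtype
    (K := Y ⊓ H)).exists_le_sylow
  set R := (R₀ : Subgroup ↥(Y ⊓ H)).map (Y ⊓ H).subtype with hRdef
  have hRp : IsPGroup 2 ↥R := R₀.2.map _
  have hRle : R ≤ Y ⊓ H := map_subtype_le _
  have hvR : v ∈ R :=
    ⟨⟨v, mem_inf.2 ⟨hVY hv, K.A_le (mem_inf.1 hv).1⟩⟩, hR₀ (mem_subgroupOf.2 hv), rfl⟩
  obtain ⟨S, hS⟩ := (hRp.comap_subtype (K := Y)).exists_le_sylow
  have hRS : R ≤ (S : Subgroup ↥Y).map Y.subtype := fun x hx =>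
    ⟨⟨x, (mem_inf.1 (hRle hx)).1⟩, hS (mem_subgroupOf.2 hx), rfl⟩
  have hSR : R = (S : Subgroup ↥Y).map Y.subtype := by
    refine LESylow.eq_of_normalizer_inf_le (S.2.map _) hRS fun u hu => ?_
    obtain ⟨hu1, hu2⟩ := mem_inf.1 hu
    have huY : u ∈ Y := map_subtype_le _ hu1
    have huH : u ∈ H := K.mem_of_conj_mem (mem_inf.1 hv).1 hvF (mem_inf.1 huY).1
      (mem_inf.1 (hRle ((mem_normalizer_iff.1 hu2 v).1 hvR))).2
    have hle : R ⊔ zpowers u ≤ (S : Subgroup ↥Y).map Y.subtype := sup_le hRS (zpowers_le.2 hu1)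
    have hmax := R₀.is_maximal' (Q := (R ⊔ zpowers u).subgroupOf (Y ⊓ H))
      (((S.2.map _).to_le hle).comap_subtype) (fun x hx => mem_subgroupOf.2
        (mem_sup_left ⟨x, hx, rfl⟩))
    have : (⟨u, mem_inf.2 ⟨huY, huH⟩⟩ : ↥(Y ⊓ H)) ∈ (R ⊔ zpowers u).subgroupOf (Y ⊓ H) :=
      mem_subgroupOf.2 (mem_sup_right (mem_zpowers u))
    rw [hmax] at this
    exact ⟨_, this, rfl⟩
  refine (le_core_sup hF S).trans (sup_le hO ?_)
  rw [← hSR]
  exact hRle.trans inf_le_right

/-- The centralizer in `X` of a 2-element of `H` outside `F` with square in `F`. -/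
theorem Sit.cent_two_le {e : G} (he : e ∈ H) (he2 : e * e ∈ F) (heF : e ∉ F) :
    centralizer (F : Set G) ⊓ centralizer ({e} : Set G) ≤ H := by
  have hD := K.step.data
  have hte : TwoEl e := ⟨2, by
    rw [show 2 ^ 2 = 4 from rfl, show (4 : ℕ) = 2 * 2 from rfl, pow_mul, pow_two, pow_two,
      hD.sq (K.step.le he2)]⟩
  obtain ⟨c, hc, T, hT, hAT, hTH, hcT⟩ :=
    exists_conj_over hD.isPGroup K.A_le hte.isPGroup (zpowers_le.2 he)
  have hcX := K.le hc
  have hfix : ∀ f ∈ F, c * f * c⁻¹ = f := fun f hf => by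
    rw [← mem_centralizer_iff.1 hcX f hf, mul_inv_cancel_right]
  have he' : c * e * c⁻¹ ∈ T := hcT e (mem_zpowers e)
  have hsq : c * e * c⁻¹ * (c * e * c⁻¹) = e * e := by
    rw [show c * e * c⁻¹ * (c * e * c⁻¹) = c * (e * e) * c⁻¹ by group, hfix _ he2]
  have key : centralizer (F : Set G) ⊓ centralizer ({c * e * c⁻¹} : Set G) ≤ H := by
    by_cases h : c * e * c⁻¹ ∈ centralizer (A : Set G)
    · intro x hx
      refine K.cent_le _ (hD.centre _ h (hte.conj c)) ?_ (mem_CX.2 ⟨(mem_inf.1 hx).1,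
        mem_centralizer_singleton_iff.1 (mem_inf.1 hx).2⟩)
      intro hF'
      refine heF ?_
      have h1 := mem_centralizer_iff.1 hcX _ hF'
      simp only [inv_mul_cancel_right] at h1
      rw [mul_left_cancel h1]
      exact hF'
    · exact K.cent_mover_le (hTH he') (K.mem_N_of_mem hT hAT he') (hte.conj c) h
        (by rw [hsq]; exact hD.le_centralizer le_rfl (K.step.le he2))
  intro x hx
  have h1 : c * x * c⁻¹ ∈ H := key (mem_inf.2
    ⟨mul_mem (mul_mem hcX (mem_inf.1 hx).1) (inv_mem hcX), mem_centralizer_singleton_iff.2 (by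
      calc c * x * c⁻¹ * (c * e * c⁻¹) = c * (x * e) * c⁻¹ := by group
        _ = c * (e * x) * c⁻¹ := by rw [mem_centralizer_singleton_iff.1 (mem_inf.1 hx).2]
        _ = _ := by group)⟩)
  simpa [mul_assoc] using mul_mem (mul_mem (inv_mem hc) h1) hc

end Cfsg.Agent.ClosedAbelian
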