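import Cfsg.Agent.Lib.ClosedAbelian.Basic
import Cfsg.Agent.Lib.LocalEven.AbelianClosed
import Cfsg.Agent.Lib.Transfer.Fusion

/-!
The data on a strongly closed elementary abelian 2-subgroup `A` and its automiser; fusion control by
the normalizer of `A`; Frobenius' criterion in the centralizers of subgroups of `A`.
-/

set_option autoImplicit false
set_option linter.style.haveILetI false
set_option linter.unusedSectionVars false

namespace Cfsg.Agent.ClosedAbelian

open Subgroup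

variable {G : Type*} [Group G]

/-- `N_G(A) ∩ C_G(F)`. -/
def NX (A F : Subgroup G) : Subgroup G := normalizer (A : Set G) ⊓ centralizer (F : Set G)

/-- The hypotheses on `A`. -/
structure Data (A : Subgroup G) : Prop where
  ea : Cfsg.IsElementaryAbelian 2 A
  closed : ∀ a ∈ A, ∀ g : G, g * a * g⁻¹ ∈ normalizer (A : Set G) → g * a * g⁻¹ ∈ A
  centre : ∀ x ∈ centralizer (A : Set G), TwoEl x → x ∈ A
  two : ∀ y ∈ normalizer (A : Set G), ∀ n ∈ normalizer (A : Set G), y ∉ centralizer (A : Set G) →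
    y * y ∈ centralizer (A : Set G) → n * y = y * n → Odd (orderOf n) → n ∈ centralizer (A : Set G)
  small : ∀ r ∈ normalizer (A : Set G), Odd (orderOf r) → r ∉ centralizer (A : Set G) →
    Nat.card ↥(A ⊓ centralizer ({r} : Set G)) * 8 ≤ Nat.card A
  wide : ∀ r ∈ normalizer (A : Set G), Odd (orderOf r) → r ∉ centralizer (A : Set G) →
    ∀ y ∈ normalizer (A : Set G), y ∉ centralizer (A : Set G) → y * y ∈ centralizer (A : Set G) →
    Nat.card ↥(A ⊓ centralizer ({r} : Set G)) * 4 ≤ Nat.card ↥(A ⊓ centralizer ({y} : Set G))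
  split : ∀ y ∈ normalizer (A : Set G), TwoEl y → y ∉ centralizer (A : Set G) → y * y ∈ A →
    ∃ a ∈ A, y * a * (y * a) = 1
  orbit : ∀ F ≤ A, (centralizer (A : Set G)).relIndex (NX A F) ≠ 1 →
    Odd ((centralizer (A : Set G)).relIndex (NX A F)) →
    ¬ (Nat.card A / Nat.card F - 1) ∣ (centralizer (A : Set G)).relIndex (NX A F)

variable [Finite G] {A : Subgroup G}

theorem Data.comm (D : Data A) {a b : G} (ha : a ∈ A) (hb : b ∈ A) : a * b = b * a :=
  haveI := D.ea.1
  congrArg Subtype.val (mul_comm' (⟨a, ha⟩ : ↥A) ⟨b, hb⟩)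

theorem Data.sq (D : Data A) {a : G} (ha : a ∈ A) : a * a = 1 := by
  rw [← pow_two]
  exact D.ea.2 a ha

theorem Data.inv (D : Data A) {a : G} (ha : a ∈ A) : a⁻¹ = a :=
  inv_eq_of_mul_eq_one_right (D.sq ha)

theorem Data.isPGroup (D : Data A) : IsPGroup 2 ↥A := fun a => ⟨1, Subtype.ext (D.ea.2 a a.2)⟩

theorem Data.le_centralizer (D : Data A) {F : Subgroup G} (hF : F ≤ A) :
    A ≤ centralizer (F : Set G) := fun a ha =>
  mem_centralizer_iff.2 fun f hf => D.comm (hF hf) ha

theorem Data.le_NX (D : Data A) {F : Subgroup G} (hF : F ≤ A) : A ≤ NX A F :=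
  le_inf Subgroup.le_normalizer (D.le_centralizer hF)

theorem centralizer_le_NX (F : Subgroup G) (hF : F ≤ A) : centralizer (A : Set G) ≤ NX A F :=
  le_inf (centralizer_le_normalizer _) (Subgroup.centralizer_le hF)

/-- A 2-subgroup containing `A` normalises it. -/
theorem Data.le_normalizer_of_two (D : Data A) {P : Subgroup G} (hP : IsPGroup 2 ↥P) (hA : A ≤ P) :
    P ≤ normalizer (A : Set G) := by
  rw [← inf_eq_left]
  refine LESylow.eq_of_normalizer_inf_le hP inf_le_left fun u hu => ?_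
  refine mem_inf.2 ⟨(mem_inf.1 hu).1, ?_⟩
  rw [← LEBasic.map_conj_eq_iff_mem_normalizer]
  refine eq_of_le_of_card_ge ?_ (LEBasic.card_map_conj A u).ge
  rintro _ ⟨a, ha, rfl⟩
  exact D.closed a ha u (mem_inf.1 ((mem_normalizer_iff.1 (mem_inf.1 hu).2 a).1
    (mem_inf.2 ⟨hA ha, Subgroup.le_normalizer ha⟩))).2

theorem Data.stronglyClosed (D : Data A) (S : Sylow 2 G) (hA : A ≤ (S : Subgroup G)) :
    Cfsg.IsStronglyClosed A (S : Subgroup G) :=
  ⟨hA, fun a ha g hg => D.closed a ha g (D.le_normalizer_of_two S.2 hA hg)⟩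

/-- Strong fusion in a 2-group containing `A` is controlled by `N(A)`, also inside `C(F)`. -/
theorem Data.control (D : Data A) {F : Subgroup G} (hF : F ≤ A) {T : Subgroup G}
    (hT : IsPGroup 2 ↥T) (hAT : A ≤ T) {g : G} (hg : g ∈ centralizer (F : Set G)) (X : Set G)
    (hX : ∀ x ∈ X, x ∈ T) (hgX : ∀ x ∈ X, g * x * g⁻¹ ∈ T) :
    ∃ n ∈ NX A F, ∀ x ∈ X, g * x * g⁻¹ = n * x * n⁻¹ := by
  haveI := D.ea.1
  obtain ⟨S, hS⟩ := hT.exists_le_sylow
  have hfix : ∀ x ∈ F, g * x * g⁻¹ = x := fun x hx => by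
    rw [← mem_centralizer_iff.1 hg x hx, mul_inv_cancel_right]
  obtain ⟨n, hn, hn'⟩ := LEAbelianClosed.controls S (D.stronglyClosed S (hAT.trans hS))
    (X ∪ (F : Set G))
    (fun x hx => hS (hx.elim (hX x) fun h => hAT (hF h))) g
    (fun x hx => hS (hx.elim (hgX x) fun h => by rw [hfix x h]; exact hAT (hF h)))
  refine ⟨n, mem_inf.2 ⟨hn, mem_centralizer_iff.2 fun x hx => ?_⟩, fun x hx => hn' x (Or.inl hx)⟩
  have h := hn' x (Or.inr hx)
  rw [hfix x hx] at h
  exact eq_mul_inv_iff_mul_eq.1 h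

/-! ### The centralizer of `A` -/

theorem Data.odd_mem_core_centralizer (D : Data A) {v : G} (hv : v ∈ centralizer (A : Set G))
    (ho : Odd (orderOf v)) : v ∈ core (centralizer (A : Set G)) := by
  have hAC : A ≤ centralizer (A : Set G) := D.le_centralizer le_rfl
  obtain ⟨P, hP⟩ := (D.isPGroup.comap_subtype (K := centralizer (A : Set G))).exists_le_sylow
  have hPA : ∀ x : ↥(centralizer (A : Set G)), x ∈ (P : Subgroup ↥(centralizer (A : Set G))) →
      (x : G) ∈ A := fun x hx => by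
    obtain ⟨k, hk⟩ := P.2 ⟨x, hx⟩
    exact D.centre x x.2 ⟨k, by
      have := congrArg Subtype.val (congrArg Subtype.val hk)
      simpa using this⟩
  have hnpc := Fusion.hasNormalPComplement_of_normalizer_le_centralizer (p := 2) P fun x _ =>
    mem_centralizer_iff.2 fun y hy => Subtype.ext (mem_centralizer_iff.1 x.2 y (hPA y hy))
  have hodd : (⟨v, hv⟩ : ↥(centralizer (A : Set G))) ∈ Cfsg.pResidual 2 _ :=
    PBasic.mem_pResidual (by rw [orderOf_mk]; exact Nat.coprime_two_right.2 ho)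
  refine ⟨⟨v, hv⟩, PBasic.le_pPrimeCore (PBasic.pResidual_normal_inst 2 _) ?_ hodd, rfl⟩
  exact (PBasic.coprime_card_iff _).2 fun x hx => (PBasic.mem_pResidual_iff hnpc).1 hx

/-- An element of odd order inducing on a 2-subgroup of `N(A)` the action of an element `n` of
`N(A)` whose odd part centralises `A` centralises that subgroup. -/
theorem Data.centralizes (D : Data A) {P : Subgroup G} (hP : IsPGroup 2 ↥P)
    (hPA : P ≤ normalizer (A : Set G)) {g n : G} (hgP : g ∈ normalizer (P : Set G))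
    (ho : Odd (orderOf g)) (hn : ∀ d ∈ P, g * d * g⁻¹ = n * d * n⁻¹)
    (hC : ∀ v ∈ zpowers n, Odd (orderOf v) → v ∈ centralizer (A : Set G)) :
    g ∈ centralizer (P : Set G) := by
  have hgd : ∀ d ∈ P, g * d * g⁻¹ ∈ P := fun d hd => (mem_normalizer_iff.1 hgP d).1 hd
  have hnP : n ∈ normalizer (P : Set G) := by
    rw [← LEBasic.map_conj_eq_iff_mem_normalizer]
    refine eq_of_le_of_card_ge ?_ (LEBasic.card_map_conj P n).ge
    rintro _ ⟨d, hd, rfl⟩
    show n * d * n⁻¹ ∈ P
    rw [← hn d hd]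
    exact hgd d hd
  obtain ⟨u, v, huv, -, hv, ⟨k, hk⟩, hov⟩ := exists_parts n
  have hvC := hC v hv hov
  have hvP : v ∈ normalizer (P : Set G) := zpowers_le.2 hnP hv
  have hvd : ∀ d ∈ P, v * d * v⁻¹ = d := fun d hd => by
    have h1 : d * v * d⁻¹ * v⁻¹ ∈ P := by
      rw [mul_assoc, mul_assoc]
      refine mul_mem hd ?_
      rw [← mul_assoc]
      exact (mem_normalizer_iff.1 hvP d⁻¹).1 (inv_mem hd)
    have hvc := D.odd_mem_core_centralizer hvC hov
    have h2 : d * v * d⁻¹ * v⁻¹ ∈ core (centralizer (A : Set G)) :=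
      mul_mem ((mem_normalizer_iff.1 (normalizer_le_normalizer_core _
        (LELarge.normalizer_le_normalizer_centralizer A (hPA hd))) v).1 hvc) (inv_mem hvc)
    have h3 := (TwoEl.of_group hP h1).eq_one_of_odd
      (odd_orderOf_of_mem (core_odd _) h2)
    rw [mul_inv_eq_one, mul_inv_eq_iff_eq_mul] at h3
    rw [← h3, mul_inv_cancel_right]
  have hu : ∀ d ∈ P, g * d * g⁻¹ = u * d * u⁻¹ := fun d hd => by
    rw [hn d hd, ← huv]
    conv_rhs => rw [← hvd d hd]
    group
  have hi : ∀ i : ℕ, ∀ d ∈ P, g ^ i * d * (g ^ i)⁻¹ = u ^ i * d * (u ^ i)⁻¹ := by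
    intro i
    induction i with
    | zero => intro d _; simp
    | succ i ih =>
      intro d hd
      calc g ^ (i + 1) * d * (g ^ (i + 1))⁻¹ = g ^ i * (g * d * g⁻¹) * (g ^ i)⁻¹ := by
            simp [pow_succ, mul_assoc]
        _ = u ^ i * (g * d * g⁻¹) * (u ^ i)⁻¹ := ih _ (hgd d hd)
        _ = _ := by rw [hu d hd]; simp [pow_succ, mul_assoc]
  have hgk : g ^ 2 ^ k ∈ centralizer (P : Set G) := mem_centralizer_iff.2 fun d hd => by
    have := hi (2 ^ k) d hd
    rw [hk] at this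
    simp only [one_mul, inv_one, mul_one] at this
    exact (mul_inv_eq_iff_eq_mul.1 this).symm
  obtain ⟨i, hi'⟩ := exists_pow_eq_self_of_coprime
    (x := g) (Nat.Coprime.pow_left k (Nat.coprime_two_left.2 ho))
  exact hi' ▸ pow_mem hgk i

/-- Frobenius' criterion in a subgroup. -/
theorem le_core_sup {Y : Subgroup G}
    (hF : ∀ P : Subgroup G, IsPGroup 2 ↥P → P ≤ Y → ∀ g ∈ Y, g ∈ normalizer (P : Set G) →
      Odd (orderOf g) → g ∈ centralizer (P : Set G))
    (S : Sylow 2 ↥Y) : Y ≤ core Y ⊔ (S : Subgroup ↥Y).map Y.subtype := by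
  have hnpc : Cfsg.HasNormalPComplement 2 ↥Y :=
    Fusion.hasNormalPComplement_of_frobenius fun P hP g hg ho => by
      have h := hF (P.map Y.subtype) (hP.map _) (map_subtype_le _) g g.2
        (le_normalizer_map Y.subtype ⟨g, hg, rfl⟩)
        (by rw [orderOf_coe]; exact Nat.coprime_two_right.1 ho)
      exact mem_centralizer_iff.2 fun x hx =>
        Subtype.ext (mem_centralizer_iff.1 h x ⟨x, hx, rfl⟩)
  have hres : Cfsg.pResidual 2 ↥Y ≤ Cfsg.oddCore ↥Y :=
    PBasic.le_pPrimeCore (PBasic.pResidual_normal_inst 2 _)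
      ((PBasic.coprime_card_iff _).2 fun x hx => (PBasic.mem_pResidual_iff hnpc).1 hx)
  intro y hy
  have h : (⟨y, hy⟩ : ↥Y) ∈ Cfsg.oddCore ↥Y ⊔ (S : Subgroup ↥Y) := by
    refine sup_le_sup_right hres _ ?_
    rw [sup_comm, PBasic.sylow_sup_pResidual S]
    exact mem_top _
  have := mem_map_of_mem Y.subtype h
  rwa [Subgroup.map_sup] at this

/-! ### The conclusion for one subgroup -/

/-- `C(F) = O(C(F)) N_{C(F)}(A)`. -/
def Good (A F : Subgroup G) : Prop :=
  centralizer (F : Set G) ≤ core (centralizer (F : Set G)) ⊔ NX A F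

theorem Good.exists_mul {F : Subgroup G} (h : Good A F) {x : G}
    (hx : x ∈ centralizer (F : Set G)) :
    ∃ o ∈ core (centralizer (F : Set G)), ∃ n ∈ NX A F, x = o * n := by
  have hx' := h hx
  rw [← SetLike.mem_coe, coe_mul_of_right_le_normalizer_left _ (NX A F)
    ((inf_le_right : NX A F ≤ centralizer (F : Set G)).trans (core_normalized _))] at hx'
  obtain ⟨o, ho, n, hn, he⟩ := hx'
  exact ⟨o, ho, n, hn, he.symm⟩

/-- The first case: the automiser of `F` in `A` is a 2-group. -/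
theorem Data.good_of_two (D : Data A) {F : Subgroup G} (hF : F ≤ A)
    (h : ∀ r ∈ NX A F, Odd (orderOf r) → r ∈ centralizer (A : Set G)) : Good A F := by
  obtain ⟨S, hS⟩ := (D.isPGroup.comap_subtype (K := centralizer (F : Set G))).exists_le_sylow
  have hAS : A ≤ (S : Subgroup ↥(centralizer (F : Set G))).map (Subgroup.subtype _) := fun a ha =>
    ⟨⟨a, D.le_centralizer hF ha⟩, hS (mem_subgroupOf.2 ha), rfl⟩
  refine (le_core_sup (fun P hP hPX g hgX hgN ho => ?_) S).trans (sup_le_sup_left ?_ _)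
  · obtain ⟨c, hc, T, hT, hAT, hTX, hcT⟩ := exists_conj_over D.isPGroup (D.le_centralizer hF) hP hPX
    set P' := P.map (MulAut.conj c).toMonoidHom with hP'
    have hP'T : P' ≤ T := by rintro _ ⟨x, hx, rfl⟩; exact hcT x hx
    have hg' : c * g * c⁻¹ ∈ normalizer (P' : Set G) :=
      le_normalizer_map (MulAut.conj c).toMonoidHom ⟨g, hgN, rfl⟩
    obtain ⟨n, hn, hn'⟩ := D.control hF hT hAT (mul_mem (mul_mem hc hgX) (inv_mem hc)) (P' : Set G)
      (fun x hx => hP'T hx) (fun x hx => hP'T ((mem_normalizer_iff.1 hg' x).1 hx))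
    have hcen := D.centralizes (hT.to_le hP'T) (hP'T.trans (D.le_normalizer_of_two hT hAT)) hg'
      ((MulAut.conj c).orderOf_eq g ▸ ho :) hn'
      (fun v hv hov => h v (zpowers_le.2 hn hv) hov)
    refine mem_centralizer_iff.2 fun x hx => ?_
    have := mem_centralizer_iff.1 hcen (c * x * c⁻¹) ⟨x, hx, rfl⟩
    calc x * g = c⁻¹ * ((c * x * c⁻¹) * (c * g * c⁻¹)) * c := by group
      _ = c⁻¹ * ((c * g * c⁻¹) * (c * x * c⁻¹)) * c := by rw [this]
      _ = g * x := by group
  · exact le_inf (D.le_normalizer_of_two (S.2.map _) hAS) (map_subtype_le _)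

end Cfsg.Agent.ClosedAbelian
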