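import Cfsg.Agent.Lib.ClosedAbelian.Data
import Cfsg.Agent.Lib.Signalizer.SFT.Main
import Cfsg.Agent.Lib.OddChar.OddTheorem

/-!
The signalizer functor `b ↦ O(C(F⟨b⟩))` on a complement of `F` in `A` and its closure.
-/

set_option autoImplicit false
set_option linter.style.haveILetI false
set_option linter.unusedSectionVars false

namespace Cfsg.Agent.ClosedAbelian

open Subgroup

universe u

variable {G : Type u} [Group G] [Finite G] {A F : Subgroup G}

/-- `C(F) ∩ C(b)`. -/
def CX (F : Subgroup G) (b : G) : Subgroup G := centralizer ((F ⊔ zpowers b : Subgroup G) : Set G)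

theorem mem_CX {F : Subgroup G} {b x : G} :
    x ∈ CX F b ↔ x ∈ centralizer (F : Set G) ∧ x * b = b * x := by
  constructor
  · intro h
    exact ⟨Subgroup.centralizer_le (le_sup_left : F ≤ F ⊔ zpowers b) h,
      (mem_centralizer_iff.1 h b (mem_sup_right (mem_zpowers b))).symm⟩
  · rintro ⟨h1, h2⟩
    refine mem_centralizer_iff.2 fun y hy => ?_
    have : F ⊔ zpowers b ≤ centralizer ({x} : Set G) :=
      sup_le (fun f hf => mem_centralizer_singleton_iff.2 (mem_centralizer_iff.1 h1 f hf))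
        (zpowers_le.2 (mem_centralizer_singleton_iff.2 h2.symm))
    exact mem_centralizer_singleton_iff.1 (this hy)

theorem CX_le (F : Subgroup G) (b : G) : CX F b ≤ centralizer (F : Set G) := fun _ h => (mem_CX.1 h).1

/-- Odd elements centralising `A` lie in the odd core of `C(F)`. -/
theorem Data.odd_mem_core (D : Data A) (hF : F ≤ A) (hG : Good A F) {v : G}
    (hv : v ∈ centralizer (A : Set G)) (ho : Odd (orderOf v)) : v ∈ core (centralizer (F : Set G)) := by
  set C := centralizer (A : Set G) with hC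
  set X := centralizer (F : Set G) with hX
  have hCX : core C ≤ X := (core_le C).trans (Subgroup.centralizer_le hF)
  refine mem_core_of_mem (N := core C ⊔ core X) (sup_le hCX (core_le X)) ?_ (sup_core_odd hCX (core_odd C))
    (mem_sup_left (D.odd_mem_core_centralizer hv ho))
  refine hG.trans (sup_le ?_ ?_)
  · exact le_trans le_sup_right Subgroup.le_normalizer
  · refine le_trans (le_inf ?_ ?_) (normalizer_inf_normalizer_le_normalizer_sup (core C) (core X))
    · exact inf_le_left.trans ((LELarge.normalizer_le_normalizer_centralizer A).trans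
        (normalizer_le_normalizer_core C))
    · exact inf_le_right.trans (core_normalized X)

/-- The hypothesis of the inductive step. -/
structure Step (A F : Subgroup G) : Prop where
  data : Data A
  le : F ≤ A
  eight : Nat.card F * 8 ≤ Nat.card A
  ih : ∀ b ∈ A, b ∉ F → Good A (F ⊔ zpowers b)

variable (S : Step A F)
include S

theorem Step.sup_le_A {b : G} (hb : b ∈ A) : F ⊔ zpowers b ≤ A := sup_le S.le (zpowers_le.2 hb)

theorem Step.A_le_CX {b : G} (hb : b ∈ A) : A ≤ CX F b := S.data.le_centralizer (S.sup_le_A hb)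

theorem Step.balance {a b : G} (ha : a ∈ A) (hb : b ∈ A) (hbF : b ∉ F) :
    core (CX F a) ⊓ centralizer ({b} : Set G) ≤ core (CX F b) := by
  intro d hd
  obtain ⟨hd1, hd2⟩ := mem_inf.1 hd
  have hdb : d ∈ CX F b :=
    mem_CX.2 ⟨CX_le F a (core_le _ hd1), mem_centralizer_singleton_iff.1 hd2⟩
  have hbA : ∀ x ∈ A, x ∈ centralizer ({b} : Set G) := fun x hx =>
    mem_centralizer_singleton_iff.2 (S.data.comm hx hb)
  have hAa : ∀ x ∈ A, ∀ y ∈ core (CX F a), x * y * x⁻¹ ∈ core (CX F a) := fun x hx y hy =>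
    conj_mem_core (S.A_le_CX ha hx) hy
  have hAb : ∀ x ∈ A, ∀ y ∈ core (CX F b), x * y * x⁻¹ ∈ core (CX F b) := fun x hx y hy =>
    conj_mem_core (S.A_le_CX hb hx) hy
  obtain ⟨o, ho, n, hn, rfl⟩ := (S.ih b hb hbF).exists_mul hdb
  have hnA : n ∈ normalizer (A : Set G) := (mem_inf.1 hn).1
  have hnC : n ∈ centralizer (A : Set G) := mem_centralizer_iff.2 fun x hx => by
    set x' := n * x * n⁻¹ with hx'
    have hx'A : x' ∈ A := (mem_normalizer_iff.1 hnA x).1 hx
    set e := o * n * (x * (o * n)⁻¹ * x⁻¹) with he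
    have heD : e ∈ core (CX F a) := mul_mem hd1 (hAa x hx _ (inv_mem hd1))
    have heo : e = o * (x' * o⁻¹ * x'⁻¹) * (x' * x⁻¹) := by rw [he, hx']; group
    have ho' : o * (x' * o⁻¹ * x'⁻¹) ∈ core (CX F b) := mul_mem ho (hAb x' hx'A _ (inv_mem ho))
    have hα : x' * x⁻¹ ∈ A := mul_mem hx'A (inv_mem hx)
    have he2 : e * e ∈ core (CX F b) := by
      have h1 := mul_mem ho' (hAb _ hα _ ho')
      rw [heo]
      convert h1 using 1
      rw [S.data.inv hα]
      group
    have heb := mem_of_sq_mem he2 (odd_orderOf_of_mem (core_odd _) heD)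
    rw [heo] at heb
    have hαb : x' * x⁻¹ ∈ core (CX F b) := by simpa [mul_assoc] using mul_mem (inv_mem ho') heb
    have := (TwoEl.of_group S.data.isPGroup hα).eq_one_of_odd
      (odd_orderOf_of_mem (core_odd _) hαb)
    rw [mul_inv_eq_one, hx', mul_inv_eq_iff_eq_mul] at this
    exact this.symm
  obtain ⟨u, v, rfl, hu, hv, hu2, hov⟩ := exists_parts n
  have huA : u ∈ A := S.data.centre u (zpowers_le.2 hnC hu) hu2
  have hvb : v ∈ core (CX F b) :=
    S.data.odd_mem_core (S.sup_le_A hb) (S.ih b hb hbF) (zpowers_le.2 hnC hv) hov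
  have h1 : o * (u * v * u⁻¹) ∈ core (CX F b) := mul_mem ho (hAb u huA v hvb)
  refine mem_of_sq_mem ?_ (odd_orderOf_of_mem (core_odd _) hd1)
  have h2 := mul_mem h1 (hAb u huA _ h1)
  rwa [show o * (u * v * u⁻¹) * (u * (o * (u * v * u⁻¹)) * u⁻¹) =
    o * (u * v) * (o * (u * v)) * (u * u)⁻¹ by group, S.data.sq huA, inv_one, mul_one] at h2

/-- A complement of `F` in `A`. -/
theorem Step.exists_complement : ∃ B : Subgroup G, B ≤ A ∧ B ⊓ F = ⊥ ∧
    (∀ a ∈ A, ∃ f ∈ F, ∃ b ∈ B, a = f * b) ∧ 8 ≤ Nat.card B := by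
  obtain ⟨B, ⟨hBA, hBF⟩, hmax⟩ := (Set.toFinite {B : Subgroup G | B ≤ A ∧ B ⊓ F = ⊥}).exists_maximal
    ⟨⊥, bot_le, bot_inf_eq _⟩
  have hn : B ≤ normalizer (F : Set G) :=
    (hBA.trans (S.data.le_centralizer S.le)).trans (centralizer_le_normalizer _)
  have hall : A ≤ F ⊔ B := by
    intro a ha
    by_contra hab
    have haB : a ∉ B := fun h => hab (mem_sup_right h)
    have hle : B ⊔ zpowers a ≤ A := sup_le hBA (zpowers_le.2 ha)
    have hint : (B ⊔ zpowers a) ⊓ F = ⊥ := by
      rw [eq_bot_iff]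
      intro x hx
      obtain ⟨hx1, hx2⟩ := mem_inf.1 hx
      have hna : zpowers a ≤ normalizer (B : Set G) := zpowers_le.2
        ((centralizer_le_normalizer _) (S.data.le_centralizer hBA ha))
      rw [← SetLike.mem_coe, coe_mul_of_right_le_normalizer_left _ _ hna] at hx1
      obtain ⟨c, hc, w, hw, rfl⟩ := hx1
      obtain ⟨i, rfl⟩ := mem_zpowers_iff.1 hw
      rcases Int.even_or_odd i with ⟨j, rfl⟩ | ⟨j, rfl⟩
      · have : a ^ (j + j) = 1 := by
          rw [← two_mul, zpow_mul, show a ^ (2 : ℤ) = a * a from zpow_two a, S.data.sq ha, one_zpow]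
        simp only [this, mul_one] at hx2 ⊢
        exact hBF ▸ mem_inf.2 ⟨hc, hx2⟩
      · have : a ^ (2 * j + 1) = a := by
          rw [zpow_add, zpow_mul, show a ^ (2 : ℤ) = a * a from zpow_two a, S.data.sq ha, one_zpow,
            one_mul, zpow_one]
        simp only [this] at hx2
        exact absurd (show a ∈ F ⊔ B from by
          simpa using mul_mem (mem_sup_right (inv_mem hc)) (mem_sup_left (T := B) hx2)) hab
    exact haB (hmax ⟨hle, hint⟩ le_sup_left (mem_sup_right (mem_zpowers a)))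
  refine ⟨B, hBA, hBF, fun a ha => ?_, ?_⟩
  · have h := hall ha
    rw [← SetLike.mem_coe, coe_mul_of_right_le_normalizer_left _ _ hn] at h
    obtain ⟨f, hf, b, hb, rfl⟩ := h
    exact ⟨f, hf, b, hb, rfl⟩
  · have hcard := SolvBasic.card_sup_of_inf_eq_bot hn (by rw [inf_comm]; exact hBF)
    have h1 := Subgroup.card_le_of_le hall
    rw [hcard] at h1
    exact Nat.le_of_mul_le_mul_left (S.eight.trans h1) Nat.card_pos

omit S in
theorem CX_mul {f b : G} (hf : f ∈ F) : CX F (f * b) = CX F b := by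
  have : F ⊔ zpowers (f * b) = F ⊔ zpowers b := le_antisymm
    (sup_le le_sup_left (zpowers_le.2 (mul_mem (mem_sup_left hf) (mem_sup_right (mem_zpowers b)))))
    (sup_le le_sup_left (zpowers_le.2 (by
      simpa using mul_mem (mem_sup_left (T := zpowers (f * b)) (inv_mem hf))
        (mem_sup_right (mem_zpowers (f * b))))))
  rw [CX, CX, this]

omit S in
theorem map_CX {n b : G} (hn : n ∈ centralizer (F : Set G)) :
    (CX F b).map (MulAut.conj n).toMonoidHom = CX F (n * b * n⁻¹) := by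
  have hcj : ∀ x m : G, m ∈ centralizer (F : Set G) → x ∈ centralizer (F : Set G) →
      m * x * m⁻¹ ∈ centralizer (F : Set G) := fun x m hm hx => mul_mem (mul_mem hm hx) (inv_mem hm)
  ext x
  rw [LEBasic.mem_map_conj, mem_CX, mem_CX]
  constructor
  · rintro ⟨h1, h2⟩
    refine ⟨by simpa [mul_assoc] using hcj _ n hn h1, ?_⟩
    calc x * (n * b * n⁻¹) = n * (n⁻¹ * x * n * b) * n⁻¹ := by group
      _ = n * (b * (n⁻¹ * x * n)) * n⁻¹ := by rw [h2]
      _ = _ := by group
  · rintro ⟨h1, h2⟩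
    refine ⟨by simpa [mul_assoc] using hcj x n⁻¹ (inv_mem hn) h1, ?_⟩
    calc n⁻¹ * x * n * b = n⁻¹ * (x * (n * b * n⁻¹)) * n := by group
      _ = n⁻¹ * (n * b * n⁻¹ * x) * n := by rw [h2]
      _ = _ := by group

/-- The closure of the functor. -/
theorem Step.exists_W : ∃ W : Subgroup G, W ≤ centralizer (F : Set G) ∧ ¬ 2 ∣ Nat.card W ∧
    NX A F ≤ normalizer (W : Set G) ∧ ∀ b ∈ A, b ∉ F → CX F b ≤ W ⊔ NX A F := by
  obtain ⟨B, hBA, hBF, hdec, hB8⟩ := S.exists_complement
  have hne : ∀ b ∈ B, b ≠ 1 → b ∉ F := fun b hb hb1 h =>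
    hb1 (mem_bot.1 (hBF ▸ mem_inf.2 ⟨hb, h⟩))
  set θ : G → Subgroup G := fun b => core (CX F b) with hθdef
  have hθ : Cfsg.IsSolvableSignalizerFunctor 2 B θ := by
    refine ⟨⟨fun b _ _ x hx => mem_centralizer_singleton_iff.2 (mem_CX.1 (core_le _ hx)).2,
      fun b _ _ => core_odd _, fun b hb _ a ha x hx => conj_mem_core (S.A_le_CX (hBA hb) (hBA ha)) hx,
      fun a ha _ b hb hb1 => S.balance (hBA ha) (hBA hb) (hne b hb hb1)⟩, fun b _ _ => ?_⟩
    refine OddChar.oddSolvable _ ?_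
    rw [← Nat.not_even_iff_odd, even_iff_two_dvd]
    exact core_odd _
  obtain ⟨hfam, -⟩ := Signalizer.SFT.iSup_props (Signalizer.ea_mono S.data.ea hBA)
    (by norm_num; exact hB8) hθ
  set W := ⨆ b : {b : G // b ∈ B ∧ b ≠ 1}, θ b.1 with hW
  have hθW : ∀ b ∈ A, b ∉ F → core (CX F b) ≤ W := fun a ha haF => by
    obtain ⟨f, hf, b, hb, rfl⟩ := hdec a ha
    have hb1 : b ≠ 1 := fun h => haF (by rw [h, mul_one]; exact hf)
    rw [CX_mul hf]
    exact le_iSup (fun b : {b : G // b ∈ B ∧ b ≠ 1} => θ b.1) ⟨b, hb, hb1⟩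
  refine ⟨W, iSup_le fun b => (core_le _).trans (CX_le F _), hfam.2.1, fun n hn => ?_,
    fun b hb hbF => ?_⟩
  · rw [← LEBasic.map_conj_eq_iff_mem_normalizer]
    refine eq_of_le_of_card_ge ?_ (LEBasic.card_map_conj W n).ge
    rw [map_le_iff_le_comap]
    refine iSup_le fun b => map_le_iff_le_comap.1 (le_trans (conj_core_le _ _) ?_)
    rw [map_CX (mem_inf.1 hn).2]
    refine hθW _ ((mem_normalizer_iff.1 (mem_inf.1 hn).1 _).1 (hBA b.2.1)) fun h => ?_
    refine hne _ b.2.1 b.2.2 ?_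
    have h' := mem_centralizer_iff.1 (mem_inf.1 hn).2 _ h
    rw [inv_mul_cancel_right] at h'
    rwa [mul_left_cancel h']
  · intro x hx
    obtain ⟨o, ho, n, hn, rfl⟩ := (S.ih b hb hbF).exists_mul hx
    exact mul_mem (mem_sup_left (hθW b hb hbF ho)) (mem_sup_right
      (mem_inf.2 ⟨(mem_inf.1 hn).1, CX_le F b (mem_inf.1 hn).2⟩))

end Cfsg.Agent.ClosedAbelian
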