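import Cfsg.Agent.Lib.ClosedAbelian.Cent

/-!
The dihedral argument: `H = X`; the centralizers of the subgroups of `A` are `O(X) N_X(A)`.
-/

set_option autoImplicit false
set_option linter.style.haveILetI false
set_option linter.unusedSectionVars false

namespace Cfsg.Agent.ClosedAbelian

open Subgroup

universe u

variable {G : Type u} [Group G] [Finite G] {A F H : Subgroup G}

/-- An automiser of even order contains an involution, lifted to a 2-element. -/
theorem exists_two_of_even (h : ¬ Odd ((centralizer (A : Set G)).relIndex (NX A F))) :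
    ∃ y ∈ NX A F, TwoEl y ∧ y ∉ centralizer (A : Set G) ∧ y * y ∈ centralizer (A : Set G) := by
  set C := centralizer (A : Set G) with hC
  set C' := C.subgroupOf (NX A F) with hC'
  haveI : C'.Normal := normal_subgroupOf_iff_le_normalizer_inf.2
    ((le_inf (inf_le_left.trans (LELarge.normalizer_le_normalizer_centralizer A))
      Subgroup.le_normalizer).trans Subgroup.inf_normalizer_le_normalizer_inf)
  have h2 : 2 ∣ Nat.card (↥(NX A F) ⧸ C') := by
    rw [← Nat.not_even_iff_odd, not_not, even_iff_two_dvd] at h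
    exact h
  obtain ⟨q, hq⟩ := exists_prime_orderOf_dvd_card' 2 h2
  obtain ⟨y, rfl⟩ := QuotientGroup.mk'_surjective C' q
  obtain ⟨u, v, huv, hu, hv, ⟨k, hk⟩, hov⟩ := exists_parts y
  set f := QuotientGroup.mk' C'
  have hv1 : f v = 1 := by
    obtain ⟨i, rfl⟩ := mem_zpowers_iff.1 hv
    rw [map_zpow] at *
    have h1 : orderOf (f y ^ i) ∣ 2 := hq ▸ orderOf_dvd_of_pow_eq_one (by
      rw [← zpow_natCast, ← zpow_mul, mul_comm, zpow_mul, zpow_natCast, pow_orderOf_eq_one,
        one_zpow])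
    have h3 : orderOf (f y ^ i) ∣ orderOf (y ^ i) := by
      rw [← map_zpow]; exact orderOf_map_dvd f _
    exact orderOf_eq_one_iff.1 (Nat.eq_one_of_dvd_coprimes (Nat.coprime_two_left.2 hov) h1 h3)
  have hfu : f u = f y := by rw [← huv, map_mul, hv1, mul_one]
  refine ⟨u, u.2, ⟨k, by rw [← SubgroupClass.coe_pow, hk, OneMemClass.coe_one]⟩, fun hmem => ?_, ?_⟩
  · have h1 : f u = 1 := (QuotientGroup.eq_one_iff u).2 (mem_subgroupOf.2 hmem)
    rw [hfu] at h1
    rw [h1, orderOf_one] at hq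
    omega
  · have h1 : f (u * u) = 1 := by
      rw [map_mul, hfu, ← pow_two]
      exact orderOf_dvd_iff_pow_eq_one.1 (dvd_of_eq hq)
    exact mem_subgroupOf.1 ((QuotientGroup.eq_one_iff _).1 h1)

/-- The automiser is transitive on `A/F` only if its order is divisible by `|A/F| - 1`. -/
theorem Data.dvd_of_transitive (D : Data A) (hF : F ≤ A) {b : G} (hb : b ∈ A) (hbF : b ∉ F)
    (h : ∀ a ∈ A, a ∉ F → ∃ n ∈ NX A F, a⁻¹ * (n * b * n⁻¹) ∈ F) :
    Nat.card A / Nat.card F - 1 ∣ (centralizer (A : Set G)).relIndex (NX A F) := by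
  have hfix : ∀ n ∈ NX A F, ∀ f ∈ F, n * f * n⁻¹ = f := fun n hn f hf => by
    rw [← mem_centralizer_iff.1 (mem_inf.1 hn).2 f hf, mul_inv_cancel_right]
  let St : Subgroup G :=
    { carrier := {n | n ∈ NX A F ∧ b⁻¹ * (n * b * n⁻¹) ∈ F}
      one_mem' := ⟨one_mem _, by simp⟩
      mul_mem' := fun {n m} hn hm => ⟨mul_mem hn.1 hm.1, by
        have h1 := hfix n hn.1 _ hm.2
        rw [show b⁻¹ * (n * m * b * (n * m)⁻¹) =
          b⁻¹ * (n * b * n⁻¹) * (n * (b⁻¹ * (m * b * m⁻¹)) * n⁻¹) by group, h1]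
        exact mul_mem hn.2 hm.2⟩
      inv_mem' := fun {n} hn => ⟨inv_mem hn.1, by
        have h1 := hfix n⁻¹ (inv_mem hn.1) _ (inv_mem hn.2)
        rw [show b⁻¹ * (n⁻¹ * b * n⁻¹⁻¹) = n⁻¹ * (n * b * n⁻¹)⁻¹ * b * n⁻¹⁻¹ by group,
          show n⁻¹ * (n * b * n⁻¹)⁻¹ * b * n⁻¹⁻¹ = n⁻¹ * (b⁻¹ * (n * b * n⁻¹))⁻¹ * n⁻¹⁻¹ by group,
          h1]
        exact inv_mem hn.2⟩ }
  have hSt : centralizer (A : Set G) ≤ St := fun n hn => ⟨centralizer_le_NX F hF hn, by
    rw [← mem_centralizer_iff.1 hn b hb, mul_inv_cancel_right, inv_mul_cancel]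
    exact one_mem _⟩
  refine dvd_trans (dvd_of_eq ?_) (relIndex_dvd_of_le_left (NX A F) hSt)
  haveI := D.ea.1
  have hbA : ∀ n ∈ NX A F, n * b * n⁻¹ ∈ A := fun n hn =>
    (mem_normalizer_iff.1 (mem_inf.1 hn).1 b).1 hb
  let F' := F.subgroupOf A
  let f : ↥(NX A F) → ↥A ⧸ F' := fun n => QuotientGroup.mk ⟨_, hbA n n.2⟩
  have hf : ∀ n m : ↥(NX A F), f n = f m ↔ n⁻¹ * m ∈ St.subgroupOf (NX A F) := by
    intro n m
    rw [QuotientGroup.eq, mem_subgroupOf, mem_subgroupOf]
    push_cast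
    constructor
    · intro hm
      refine ⟨mul_mem (inv_mem n.2) m.2, ?_⟩
      have h1 := hfix _ (inv_mem n.2) _ hm
      rw [← h1] at hm
      convert hm using 1
      group
    · intro hm
      have h1 := hfix _ n.2 _ hm.2
      have hm' := hm.2
      rw [← h1] at hm'
      convert hm' using 1
      group
  let g : ↥(NX A F) ⧸ St.subgroupOf (NX A F) → {q : ↥A ⧸ F' // q ≠ 1} :=
    Quotient.lift (fun n => ⟨f n, fun h1 => hbF (by
      have h2 : n.1 * b * n.1⁻¹ ∈ F := mem_subgroupOf.1 ((QuotientGroup.eq_one_iff _).1 h1)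
      have h3 := hfix _ (inv_mem n.2) _ h2
      rw [show n.1⁻¹ * (n.1 * b * n.1⁻¹) * n.1⁻¹⁻¹ = b by group] at h3
      rw [h3]; exact h2)⟩)
      (fun n m hnm => Subtype.ext ((hf n m).2 (QuotientGroup.leftRel_apply.1 hnm)))
  have hg : Function.Bijective g := by
    refine ⟨fun x y => ?_, fun q => ?_⟩
    · induction x using Quotient.inductionOn' with | h n =>
      induction y using Quotient.inductionOn' with | h m =>
      intro hxy
      exact Quotient.sound' (QuotientGroup.leftRel_apply.2 ((hf n m).1 (congrArg Subtype.val hxy)))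
    · obtain ⟨q, hq⟩ := q
      obtain ⟨a, rfl⟩ := QuotientGroup.mk'_surjective F' q
      obtain ⟨n, hn, hn'⟩ := h a a.2 fun haF => hq ((QuotientGroup.eq_one_iff a).2 (mem_subgroupOf.2 haF))
      refine ⟨QuotientGroup.mk ⟨n, hn⟩, Subtype.ext (QuotientGroup.eq.2 ?_).symm⟩
      exact mem_subgroupOf.2 hn'
  have hcard := Nat.card_eq_of_bijective g hg
  have hq : Nat.card {q : ↥A ⧸ F' // q ≠ 1} = Nat.card (↥A ⧸ F') - 1 := by
    haveI := Fintype.ofFinite (↥A ⧸ F')
    classical
    rw [Nat.card_eq_fintype_card, Nat.card_eq_fintype_card, Fintype.card_subtype_compl,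
      Fintype.card_subtype_eq]
  have hAF : Nat.card (↥A ⧸ F') = Nat.card A / Nat.card F := by
    rw [card_eq_card_quotient_mul_card_subgroup F',
      Nat.card_congr (subgroupOfEquivOfLe hF).toEquiv, Nat.mul_div_cancel _ Nat.card_pos]
  rw [← hAF, ← hq, ← hcard]
  rfl

variable (K : Sit A F H)
include K

/-- An involution of `H` whose `X`-class avoids `bF`. -/
theorem Sit.exists_involution {b : G} (hb : b ∈ A) (hbF : b ∉ F) :
    ∃ x ∈ H, x * x = 1 ∧ x ∉ F ∧ ∀ g ∈ centralizer (F : Set G), ∀ f ∈ F, g * (b * f) * g⁻¹ ≠ x := by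
  have hD := K.step.data
  by_cases heven : Odd ((centralizer (A : Set G)).relIndex (NX A F))
  · obtain ⟨r, hr, -, hrC⟩ := K.mover
    have hne : (centralizer (A : Set G)).relIndex (NX A F) ≠ 1 := fun h1 =>
      hrC (relIndex_eq_one.1 h1 hr)
    have hnd := hD.orbit F K.step.le hne heven
    by_contra! hcon
    refine hnd (hD.dvd_of_transitive K.step.le hb hbF fun a ha haF => ?_)
    obtain ⟨g, hg, f, hf, hga⟩ := hcon a (K.A_le ha) (hD.sq ha) haF
    have hbf : b * f ∈ A := mul_mem hb (K.step.le hf)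
    obtain ⟨n, hn, hn'⟩ := hD.control K.step.le hD.isPGroup le_rfl hg {b * f}
      (fun x hx => by rw [Set.mem_singleton_iff.1 hx]; exact hbf)
      (fun x hx => by rw [Set.mem_singleton_iff.1 hx, hga]; exact ha)
    refine ⟨n, hn, ?_⟩
    have h1 := hn' _ rfl
    rw [hga] at h1
    have hfix : n * f * n⁻¹ = f := by
      rw [← mem_centralizer_iff.1 (mem_inf.1 hn).2 f hf, mul_inv_cancel_right]
    rw [h1, show (n * (b * f) * n⁻¹)⁻¹ * (n * b * n⁻¹) = (n * f * n⁻¹)⁻¹ by group, hfix]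
    exact inv_mem hf
  · obtain ⟨y, hy, hy2, hyC, hyy⟩ := exists_two_of_even heven
    have hyA : y * y ∈ A := hD.centre _ hyy (by
      obtain ⟨k, hk⟩ := hy2
      exact ⟨k, by rw [(Commute.refl y).mul_pow, hk, mul_one]⟩)
    obtain ⟨a, ha, hya⟩ := hD.split y (mem_inf.1 hy).1 hy2 hyC hyA
    have hx : y * a ∈ NX A F := mul_mem hy (hD.le_NX K.step.le ha)
    have hxA : y * a ∉ A := fun h => hyC (hD.le_centralizer le_rfl (by
      simpa using mul_mem h (inv_mem ha)))
    refine ⟨y * a, K.normalizer_le hx, hya, fun h => hxA (K.step.le h), fun g _ f hf he => hxA ?_⟩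
    rw [← he]
    exact hD.closed _ (mul_mem hb (K.step.le hf)) g (by rw [he]; exact (mem_inf.1 hx).1)

theorem Sit.eq : centralizer (F : Set G) ≤ H := by
  have hD := K.step.data
  obtain ⟨b, hb, hbF⟩ : ∃ b ∈ A, b ∉ F := by
    by_contra! h
    have h1 := Subgroup.card_le_of_le h
    have h2 := K.step.eight
    have : 0 < Nat.card F := Nat.card_pos
    omega
  obtain ⟨x, hxH, hx2, hxF, hxb⟩ := K.exists_involution hb hbF
  intro g hg
  refine K.mem_of_conj_mem hb hbF hg ?_
  set X := centralizer (F : Set G) with hX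
  have hfix : ∀ c ∈ X, ∀ f ∈ F, c * f * c⁻¹ = f := fun c hc f hf => by
    rw [← mem_centralizer_iff.1 hc f hf, mul_inv_cancel_right]
  set b' := g * b * g⁻¹ with hb'
  have hb'2 : b' * b' = 1 := by
    rw [hb', show g * b * g⁻¹ * (g * b * g⁻¹) = g * (b * b) * g⁻¹ by group, hD.sq hb, mul_one,
      mul_inv_cancel]
  have hxX : x ∈ X := K.le hxH
  have hb'X : b' ∈ X := mul_mem (mul_mem hg (hD.le_centralizer K.step.le hb)) (inv_mem hg)
  set d := x * b' with hd
  have hdX : d ∈ X := mul_mem hxX hb'X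
  have hxinv : x⁻¹ = x := inv_eq_of_mul_eq_one_right hx2
  have hxd : ∀ i : ℕ, x * d ^ i * x⁻¹ = (d ^ i)⁻¹ := fun i => by
    rw [← conj_pow, hd, ← inv_pow]
    congr 1
    rw [mul_inv_rev, hxinv, inv_eq_of_mul_eq_one_right hb'2, ← mul_assoc, hx2, one_mul]
  classical
  have hex : ∃ k, 0 < k ∧ d ^ k ∈ F :=
    ⟨orderOf d, orderOf_pos d, by rw [pow_orderOf_eq_one]; exact one_mem _⟩
  set k := Nat.find hex with hk
  obtain ⟨hk0, hkF⟩ : 0 < k ∧ d ^ k ∈ F := Nat.find_spec hex
  rcases Nat.even_or_odd k with ⟨j, hj⟩ | ⟨j, hj⟩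
  · set e := d ^ j with he
    have heX : e ∈ X := pow_mem hdX j
    have hee : e * e ∈ F := by rw [he, ← pow_add, ← hj]; exact hkF
    have heF : e ∉ F := fun h => Nat.find_min hex (show j < k by omega) ⟨by omega, h⟩
    -- `e x e⁻¹ = f x`
    have hex' : e * x * e⁻¹ = e * e * x := by
      have h1 := hxd j
      rw [← he, hxinv] at h1
      calc e * x * e⁻¹ = e * x * (x * e * x) := by rw [h1]
        _ = e * (x * x) * e * x := by simp [mul_assoc]
        _ = e * e * x := by rw [hx2, mul_one]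
    have htx : TwoEl x := twoEl_of_sq hx2
    obtain ⟨c, hc, T, hT, hAT, hTH, hcT⟩ :=
      exists_conj_over hD.isPGroup K.A_le htx.isPGroup (zpowers_le.2 hxH)
    have hcX := K.le hc
    have hx' : c * x * c⁻¹ ∈ T := hcT x (mem_zpowers x)
    have hgx : c * e * c⁻¹ * (c * x * c⁻¹) * (c * e * c⁻¹)⁻¹ = e * e * (c * x * c⁻¹) := by
      calc _ = c * (e * x * e⁻¹) * c⁻¹ := by group
        _ = (c * (e * e) * c⁻¹) * (c * x * c⁻¹) := by rw [hex']; group
        _ = _ := by rw [hfix c hcX _ hee]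
    obtain ⟨n, hn, hn'⟩ := hD.control K.step.le hT hAT
      (mul_mem (mul_mem hcX heX) (inv_mem hcX)) {c * x * c⁻¹}
      (fun z hz => by rw [Set.mem_singleton_iff.1 hz]; exact hx')
      (fun z hz => by
        rw [Set.mem_singleton_iff.1 hz, hgx]
        exact mul_mem (hAT (K.step.le hee)) hx')
    have hx'F : c * x * c⁻¹ ∉ F := fun h => hxF (by
      have h1 := mem_centralizer_iff.1 hcX _ h
      simp only [inv_mul_cancel_right] at h1
      rw [mul_left_cancel h1]; exact h)
    have hcent := K.cent_two_le (hTH hx') (by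
      rw [show c * x * c⁻¹ * (c * x * c⁻¹) = c * (x * x) * c⁻¹ by group, hx2, mul_one,
        mul_inv_cancel]
      exact one_mem _) hx'F
    have h1 : n⁻¹ * (c * e * c⁻¹) ∈ H := hcent (mem_inf.2
      ⟨mul_mem (inv_mem (mem_inf.1 hn).2) (mul_mem (mul_mem hcX heX) (inv_mem hcX)),
        mem_centralizer_singleton_iff.2 (by
          have := hn' _ rfl
          calc n⁻¹ * (c * e * c⁻¹) * (c * x * c⁻¹)
              = n⁻¹ * (c * e * c⁻¹ * (c * x * c⁻¹) * (c * e * c⁻¹)⁻¹) * (c * e * c⁻¹) := by group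
            _ = n⁻¹ * (n * (c * x * c⁻¹) * n⁻¹) * (c * e * c⁻¹) := by rw [this]
            _ = _ := by group)⟩)
    have heH : e ∈ H := by
      have h2 := mul_mem (mul_mem (inv_mem hc) (mul_mem (K.normalizer_le hn) h1)) hc
      simpa [mul_assoc] using h2
    have hdH : d ∈ H := K.cent_two_le heH hee heF (mem_inf.2
      ⟨hdX, mem_centralizer_singleton_iff.2 (Commute.self_pow d j).eq⟩)
    have h3 := mul_mem hxH hdH
    rw [hd, ← mul_assoc, hx2, one_mul] at h3
    exact h3
  · exfalso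
    set f := d ^ k with hf
    have hfX : f * b' = g * (b * f) * g⁻¹ := by
      rw [hb', ← hfix g hg _ hkF]
      have hbf : b * f = f * b := hD.comm hb (K.step.le hkF)
      calc g * f * g⁻¹ * (g * b * g⁻¹) = g * (f * b) * g⁻¹ := by group
        _ = g * (b * f) * g⁻¹ := by rw [hbf]
        _ = _ := by rw [hfix g hg _ hkF]
    have hconj : d ^ j * x * (d ^ j)⁻¹ = f * b' := by
      have h1 := hxd j
      rw [hxinv] at h1
      have hdx : b' = d⁻¹ * x := by
        rw [hd, mul_inv_rev, inv_eq_of_mul_eq_one_right hb'2, hxinv, mul_assoc, hx2, mul_one]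
      calc d ^ j * x * (d ^ j)⁻¹ = d ^ j * x * (x * d ^ j * x) := by rw [h1]
        _ = d ^ j * (x * x) * d ^ j * x := by simp [mul_assoc]
        _ = f * b' := by
          rw [hx2, mul_one, hf, hdx, hj, pow_succ, two_mul, pow_add]
          group
    refine hxb ((d ^ j)⁻¹ * g) (mul_mem (inv_mem (pow_mem hdX j)) hg) f hkF ?_
    calc (d ^ j)⁻¹ * g * (b * f) * ((d ^ j)⁻¹ * g)⁻¹
        = (d ^ j)⁻¹ * (g * (b * f) * g⁻¹) * d ^ j := by group
      _ = (d ^ j)⁻¹ * (d ^ j * x * (d ^ j)⁻¹) * d ^ j := by rw [hconj, hfX]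
      _ = x := by group

omit K

/-- All centralizers of subgroups of `A` are covered by their odd core and `N(A)`. -/
theorem Data.good (D : Data A) : ∀ F ≤ A, Good A F := by
  intro F hF
  induction hm : Nat.card A - Nat.card F using Nat.strong_induction_on generalizing F with
  | _ m ih =>
  by_cases hmov : ∃ r ∈ NX A F, Odd (orderOf r) ∧ r ∉ centralizer (A : Set G)
  · obtain ⟨r, hr, hro, hrC⟩ := hmov
    have h8 : Nat.card F * 8 ≤ Nat.card A := (Nat.mul_le_mul_right 8 (Subgroup.card_le_of_le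
      (le_inf hF fun f hf => mem_centralizer_singleton_iff.2
        (mem_centralizer_iff.1 (mem_inf.1 hr).2 f hf)))).trans (D.small r (mem_inf.1 hr).1 hro hrC)
    have S : Step A F := ⟨D, hF, h8, fun b hb hbF => ih _ (by
      have hlt : F < F ⊔ zpowers b := lt_of_le_of_ne le_sup_left fun h =>
        hbF (h ▸ mem_sup_right (mem_zpowers b))
      have h1 : Nat.card F < Nat.card ↥(F ⊔ zpowers b) := by
        rcases lt_or_ge (Nat.card F) (Nat.card ↥(F ⊔ zpowers b)) with h | h
        · exact h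
        · exact absurd (eq_of_le_of_card_ge hlt.le h) hlt.ne
      have h2 := Subgroup.card_le_of_le (sup_le hF (zpowers_le.2 hb))
      omega) _ (sup_le hF (zpowers_le.2 hb)) rfl⟩
    obtain ⟨W, hWX, hWodd, hWn, hW⟩ := S.exists_W
    have K : Sit A F (W ⊔ NX A F) :=
      ⟨S, ⟨r, hr, hro, hrC⟩, sup_le hWX inf_le_right, le_sup_right, hW⟩
    have hXn : centralizer (F : Set G) ≤ normalizer (W : Set G) :=
      K.eq.trans (sup_le Subgroup.le_normalizer hWn)
    exact K.eq.trans (sup_le_sup_right (le_core hWX hXn hWodd) _)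
  · simp only [not_exists, not_and, not_not] at hmov
    exact D.good_of_two hF hmov

/-- A strongly closed elementary abelian 2-subgroup with such an automiser is normal when the
odd core is trivial. -/
theorem Data.normal (D : Data A) (hO : Cfsg.oddCore G = ⊥) : A.Normal := by
  have h := D.good ⊥ bot_le
  have hX : centralizer ((⊥ : Subgroup G) : Set G) = ⊤ := by
    rw [eq_top_iff]
    intro x _
    exact mem_centralizer_iff.2 fun y hy => by rw [mem_bot.1 hy]; simp
  have hc : core (centralizer ((⊥ : Subgroup G) : Set G)) = ⊥ := by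
    rw [eq_bot_iff]
    refine (PBasic.le_pPrimeCore ?_ ?_).trans hO.le
    · rw [hX]
      exact normalizer_eq_top_iff.1 (top_le_iff.1 (core_normalized ⊤))
    · rw [Nat.coprime_comm, Nat.prime_two.coprime_iff_not_dvd]
      exact core_odd _
  rw [Good, hc, bot_sup_eq, hX] at h
  exact normalizer_eq_top_iff.1 (top_le_iff.1 (h.trans inf_le_left))

end Cfsg.Agent.ClosedAbelian
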